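import Groth.Agent.DerivedCoh.Fibre.Residue
import Groth.Agent.DerivedCoh.PCoh.TopCohomology
import Groth.Agent.DerivedCoh.PCoh.ModuleFP
import Groth.Agent.LocFree.Rank
import Groth.Agent.PropsBasic.LocFree

/-!
Perfect objects whose derived fibres live in a single degree.
-/

universe u

open CategoryTheory CategoryTheory.Limits CategoryTheory.Pretriangulated AlgebraicGeometry
  TopologicalSpace Opposite
open Groth.DerivedCoh.KFlat (stk T pullCx IsKFlat)
open Groth.KTheory.Perf (Rd Rc rdQIso nonempty_hdRd)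
open Groth.DerivedCoh.PCoh (Near)

namespace Groth.DerivedCoh.Fibre

attribute [local instance] HasDerivedCategory.standard

local notation "up" => ComplexShape.up ℤ

variable {X Y U : Scheme.{u}}

/-- ranks of a locally free module, through the fibre at the residue field -/
lemma finrank_fibF_resS {V : U.Modules} (hV : FlatMod.IsFinLocFree V) (v : U) :
    Module.finrank (IsLocalRing.ResidueField (U.presheaf.stalk v)) ((fibF (resS v)).obj V) =
      Module.finrank (U.presheaf.stalk v) (V.presheaf.stalk v) := by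
  have : Module.Free (U.presheaf.stalk v) ((stk v).obj V) :=
    Groth.PropsBasic.LocFree.free_stalk _ hV v
  refine ((Groth.FlatCxBase.extendEquiv _ ((stk v).obj V)).finrank_eq).trans ?_
  exact Module.finrank_baseChange (R := IsLocalRing.ResidueField (U.presheaf.stalk v))
    (S := U.presheaf.stalk v) (M' := ((stk v).obj V : Type u))

lemma bRes_single {V : U.Modules} (i : ℤ) (v : U) (q : ℤ) :
    bRes ((HomologicalComplex.single U.Modules up i).obj V) v q =
      if q = i then Module.finrank (IsLocalRing.ResidueField (U.presheaf.stalk v))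
        ((fibF (resS v)).obj V) else 0 := by
  let F := fibF (resS v)
  let e : ((F.mapHomologicalComplex up).obj ((HomologicalComplex.single U.Modules up i).obj V)) ≅
      (HomologicalComplex.single _ up i).obj (F.obj V) :=
    (HomologicalComplex.singleMapHomologicalComplex F up i).app V
  unfold bRes
  refine ((HomologicalComplex.homologyFunctor _ up q).mapIso e).toLinearEquiv.finrank_eq.trans ?_
  split_ifs with h
  · subst h
    exact (HomologicalComplex.singleObjHomologySelfIso up q (F.obj V)).toLinearEquiv.finrank_eq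
  · have hz := HomologicalComplex.isZero_single_obj_homology up i (F.obj V) q h
    refine ((hz.iso (ModuleCat.isZero_of_subsingleton
      (ModuleCat.of (IsLocalRing.ResidueField (U.presheaf.stalk v)) PUnit.{u + 1}))).toLinearEquiv.finrank_eq).trans ?_
    exact Module.finrank_zero_of_subsingleton

/-- a locally free module in one degree is K-flat -/
lemma isKFlat_single {V : X.Modules} (hV : FlatMod.IsFinLocFree V) (i : ℤ) :
    IsKFlat (T X) ((HomologicalComplex.single X.Modules up i).obj V) := by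
  refine PCoh.isKFlat_of_isStrictlyPerfect ⟨⟨i, i, fun n hn =>
    HomologicalComplex.isZero_single_obj_X _ i V n (by omega)⟩, fun n => ?_⟩
  by_cases hn : n = i
  · subst hn
    exact Groth.KTheory.LocFree.isFinLocFree_of_iso
      (HomologicalComplex.singleObjXSelf up n V).symm hV
  · exact Groth.KTheory.LocFree.isFinLocFree_zero (HomologicalComplex.isZero_single_obj_X _ i V n hn)

/-- the betti numbers of a shifted locally free module -/
theorem betti_of_locFree [∀ x : X, DCoh.HasLpull (X.fromSpecResidueField x)] {G : DCoh.D X}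
    {V : X.Modules} {r : ℕ} (hV : FlatMod.IsFinLocFreeOfRank r V) (i : ℤ)
    (e : G ≅ (DCoh.inD X V)⟦-i⟧) (x : X) (q : ℤ) :
    PerfD.betti G x q = if q = i then r else 0 := by
  have hfl := Groth.LocFree.isFinLocFree_of_rank hV
  let F := (HomologicalComplex.single X.Modules up i).obj V
  have hF : IsKFlat (T X) F := isKFlat_single hfl i
  let a : DCoh.toD X F ≅ G :=
    (((DerivedCategory.singleFunctors X.Modules).shiftIso (-i) i 0 (neg_add_cancel i)).app V).symm ≪≫
      e.symm
  rw [betti_eq_bRes hF a, bRes_single, finrank_fibF_resS hfl, Groth.LocFree.finrank_stalk hV]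

/-- local nature of being finite locally free -/
theorem isFinLocFree_local {M : X.Modules}
    (h : ∀ x : X, ∃ V : X.Opens, x ∈ V ∧ FlatMod.IsFinLocFree (M.restrict V.ι)) :
    FlatMod.IsFinLocFree M := by
  intro x
  obtain ⟨V, hx, hV⟩ := h x
  obtain ⟨W, n, hW, ⟨e⟩⟩ := hV ⟨x, hx⟩
  let j := W.ι ≫ V.ι
  let k := j.isoOpensRange.inv
  obtain ⟨f⟩ := Groth.KTheory.Perf.nonempty_restrict_free k e
  let i₁ := (Scheme.Modules.restrictFunctorCongr (j.isoOpensRange_inv_comp.symm :
    j.opensRange.ι = k ≫ j)).app M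
  let i₂ := (Scheme.Modules.restrictFunctorComp k j).app M
  let i₃ := (Scheme.Modules.restrictFunctor k).mapIso
    ((Scheme.Modules.restrictFunctorComp W.ι V.ι).app M)
  refine ⟨j.opensRange, n, ⟨⟨⟨x, hx⟩, hW⟩, rfl⟩, ⟨i₁ ≪≫ i₂ ≪≫ i₃ ≪≫ f⟩⟩

lemma isZero_of_stk {M : U.Modules} (h : ∀ v : U, IsZero ((stk v).obj M)) : IsZero M :=
  (Groth.QCohMod.isZero_iff_stalk M).2 fun v =>
    have : Subsingleton ((stk v).obj M) := ModuleCat.subsingleton_of_isZero (h v)
    @AddCommGrpCat.isZero_of_subsingleton ((Groth.QCohMod.stalk v).obj M) this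

theorem isPerfect_toD {P : CochainComplex U.Modules ℤ} (hP : DCoh.IsStrictlyPerfect P) :
    DCoh.IsPerfect (DCoh.toD U P) :=
  (Groth.KTheory.Perf.isPerfect_iff _).2 fun x => ⟨⊤, trivial, (Rc (⊤ : U.Opens).ι).obj P,
    Groth.KTheory.Perf.rc_isStrictlyPerfect _ hP, ⟨rdQIso _ _⟩⟩

/-- homology of a complex with split-off images is projective -/
theorem projective_ker_quot {R : Type u} [CommRing R] {M N L : Type u} [AddCommGroup M]
    [AddCommGroup N] [AddCommGroup L] [Module R M] [Module R N] [Module R L] (φ : M →ₗ[R] N)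
    (ψ : N →ₗ[R] L) [Module.Finite R N] (hφ : Module.Projective R (N ⧸ LinearMap.range φ))
    (hψ : Module.Projective R (LinearMap.range ψ)) (hcomp : LinearMap.range φ ≤ LinearMap.ker ψ) :
    Module.Finite R (LinearMap.ker ψ ⧸ (LinearMap.range φ).comap (LinearMap.ker ψ).subtype) ∧
    Module.Projective R (LinearMap.ker ψ ⧸ (LinearMap.range φ).comap (LinearMap.ker ψ).subtype) := by
  obtain ⟨s, hs⟩ := Module.projective_lifting_property ψ.rangeRestrict LinearMap.id
    ψ.surjective_rangeRestrict
  let p : N →ₗ[R] LinearMap.ker ψ :=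
    (LinearMap.id - s ∘ₗ ψ.rangeRestrict).codRestrict _ fun y => by
      have h1 := congrArg Subtype.val (LinearMap.congr_fun hs (ψ.rangeRestrict y))
      rw [LinearMap.mem_ker, LinearMap.sub_apply, map_sub]
      exact sub_eq_zero.2 h1.symm
  have hpk : ∀ y : LinearMap.ker ψ, p y.1 = y := fun y => by
    refine Subtype.ext ?_
    have h0 : ψ.rangeRestrict y.1 = 0 := Subtype.ext y.2
    change y.1 - s (ψ.rangeRestrict y.1) = y.1
    rw [h0, map_zero, sub_zero]
  set K := (LinearMap.range φ).comap (LinearMap.ker ψ).subtype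
  let inc : (LinearMap.ker ψ ⧸ K) →ₗ[R] N ⧸ LinearMap.range φ :=
    K.mapQ _ (LinearMap.ker ψ).subtype le_rfl
  let r : (N ⧸ LinearMap.range φ) →ₗ[R] (LinearMap.ker ψ ⧸ K) :=
    (LinearMap.range φ).mapQ K p (by
      rintro _ ⟨x, rfl⟩
      change (p (φ x)).1 ∈ LinearMap.range φ
      rw [hpk ⟨φ x, hcomp ⟨x, rfl⟩⟩]
      exact ⟨x, rfl⟩)
  have hr : r ∘ₗ inc = LinearMap.id := by
    refine Submodule.linearMap_qext _ (LinearMap.ext fun y => ?_)
    change Submodule.Quotient.mk (p y.1) = Submodule.Quotient.mk y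
    rw [hpk]
  exact ⟨Module.Finite.of_surjective r fun z => ⟨inc z, LinearMap.congr_fun hr z⟩,
    Module.Projective.of_split inc r hr⟩

/-- stalks of the surviving cohomology sheaf are free -/
theorem free_stalk_homology {P : CochainComplex U.Modules ℤ} (hP : DCoh.IsStrictlyPerfect P) (v : U)
    (i : ℤ) (hb : bRes P v (i - 1) = 0) (hb' : bRes P v (i + 1) = 0) :
    Module.Free (U.presheaf.stalk v) ((P.homology i).presheaf.stalk v) := by
  let R := U.presheaf.stalk v
  have fin : ∀ q, Module.Finite R ((stk v).obj (P.X q)) := fun q =>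
    Groth.LocFree.finite_stalk (hP.2 q) v
  have free : ∀ q, Module.Free R ((stk v).obj (P.X q)) := fun q =>
    Groth.PropsBasic.LocFree.free_stalk _ (hP.2 q) v
  let C := ((stk v).mapHomologicalComplex up).obj P
  have h1 : Module.Projective R (C.X i ⧸ LinearMap.range (C.d (i - 1) i).hom) := by
    have := (stalk_of_bRes_eq_zero (fin (i - 1)) (free (i - 1 + 1)) (fin (i - 1 + 1)) hb).2.2
    have t : ∀ b : ℤ, b = i → Module.Projective R (C.X b ⧸ LinearMap.range (C.d (i - 1) b).hom) →
        Module.Projective R (C.X i ⧸ LinearMap.range (C.d (i - 1) i).hom) := by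
      rintro b rfl h; exact h
    exact t _ (by omega) this
  have h2 : Module.Projective R (C.X (i + 1) ⧸ LinearMap.range (C.d i (i + 1)).hom) := by
    have := (stalk_of_bRes_eq_zero (fin (i + 1)) (free (i + 1 + 1)) (fin (i + 1 + 1)) hb').2.1
    have t : ∀ b : ℤ, b = i → Module.Projective R (C.X (i + 1) ⧸ LinearMap.range (C.d b (i + 1)).hom) →
        Module.Projective R (C.X (i + 1) ⧸ LinearMap.range (C.d i (i + 1)).hom) := by
      rintro b rfl h; exact h
    exact t _ (by omega) this
  have h3 : Module.Projective R (LinearMap.range (C.d i (i + 1)).hom) := by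
    let Rg := LinearMap.range (C.d i (i + 1)).hom
    obtain ⟨s, hs⟩ := Module.projective_lifting_property Rg.mkQ LinearMap.id Rg.mkQ_surjective
    have := free (i + 1)
    have : Module.Projective R (C.X (i + 1)) := inferInstanceAs (Module.Projective R ((stk v).obj _))
    refine Module.Projective.of_split Rg.subtype
      ((LinearMap.id - s ∘ₗ Rg.mkQ).codRestrict Rg fun y => ?hmem) ?hid
    case hmem =>
      rw [← Submodule.Quotient.mk_eq_zero Rg]
      change Rg.mkQ (y - s (Rg.mkQ y)) = 0
      rw [map_sub, sub_eq_zero]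
      exact (LinearMap.congr_fun hs (Rg.mkQ y)).symm
    case hid =>
      refine LinearMap.ext fun y => Subtype.ext ?_
      change y.1 - s (Rg.mkQ y.1) = y.1
      rw [show Rg.mkQ y.1 = 0 from (Submodule.Quotient.mk_eq_zero Rg).2 y.2, map_zero, sub_zero]
  have : Module.Finite R (C.X i) := fin i
  obtain ⟨f1, f2⟩ := projective_ker_quot (C.d (i - 1) i).hom (C.d i (i + 1)).hom h1 h3
    (by rintro _ ⟨x, rfl⟩; exact ConcreteCategory.congr_hom (C.d_comp_d (i - 1) i (i + 1)) x)
  let e := (Groth.FlatCxBase.homologyEquivQuot C (Groth.FlatCxBase.cochain_prev i)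
    (Groth.FlatCxBase.cochain_next i)).trans
      (((P.sc i).mapHomologyIso (stk v))).toLinearEquiv
  have : Module.Finite (U.presheaf.stalk v) ((stk v).obj (P.homology i)) := Module.Finite.equiv e
  have : Module.Projective (U.presheaf.stalk v) ((stk v).obj (P.homology i)) := Module.Projective.of_equiv e
  exact Module.free_of_flat_of_isLocalRing (R := U.presheaf.stalk v) (P := ((stk v).obj (P.homology i) : Type u))

/-- a perfect object with fibres concentrated in degree `i` is a locally free module placed there -/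
theorem exists_iso_shift [∀ x : X, DCoh.HasLpull (X.fromSpecResidueField x)] {G : DCoh.D X}
    (hG : DCoh.IsPerfect G) (i : ℤ) (r : ℕ)
    (h : ∀ x q, PerfD.betti G x q = if q = i then r else 0) :
    ∃ V : X.Modules, FlatMod.IsFinLocFreeOfRank r V ∧ Nonempty (G ≅ (DCoh.inD X V)⟦-i⟧) := by
  have chart : ∀ x : X, ∃ (W : X.Opens) (P : CochainComplex (W : Scheme.{u}).Modules ℤ),
      x ∈ W ∧ DCoh.IsStrictlyPerfect P ∧
        (∀ (v : (W : Scheme.{u})) q, bRes P v q = if q = i then r else 0) ∧
        (∀ q, Nonempty ((DCoh.HD G q).restrict W.ι ≅ P.homology q)) := fun x => by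
    obtain ⟨W, hx, P, hP, ⟨e⟩⟩ := (Groth.KTheory.Perf.isPerfect_iff G).1 hG x
    refine ⟨W, P, hx, hP, fun v q => ?_, fun q => ?_⟩
    · rw [← bRes_eq_betti_of_near G W.ι hP e.inv (PCoh.near_of_isIso (m := q - 1) e.inv) v q
        (by omega), h]
    · exact ⟨(nonempty_hdRd W.ι G q).some.symm ≪≫
        (DerivedCategory.homologyFunctor _ q).mapIso e ≪≫ KFlat.hdIso P q⟩
  have hz : ∀ q, q ≠ i → IsZero (DCoh.HD G q) := fun q hq =>
    Groth.KTheory.Perf.isZero_of_local fun x => by
      obtain ⟨W, P, hx, hP, hb, he⟩ := chart x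
      refine ⟨W, hx, IsZero.of_iso (isZero_of_stk fun v => ?_) (he q).some⟩
      exact (stalk_of_bRes_eq_zero (Groth.LocFree.finite_stalk (hP.2 q) v)
        (Groth.PropsBasic.LocFree.free_stalk _ (hP.2 (q + 1)) v)
        (Groth.LocFree.finite_stalk (hP.2 (q + 1)) v) ((hb v q).trans (if_neg hq))).1
  have hfl : FlatMod.IsFinLocFree (DCoh.HD G i) := isFinLocFree_local fun x => by
    obtain ⟨W, P, hx, hP, hb, he⟩ := chart x
    let eP := KFlat.hdIso P i
    refine ⟨W, hx, Groth.KTheory.LocFree.isFinLocFree_of_iso (eP ≪≫ (he i).some.symm) ?_⟩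
    have hfp : CohB1.IsFP (DCoh.HD (DCoh.toD _ P) i) := by
      have hpc := PCoh.isPseudoCoherentD_of_isPerfect (isPerfect_toD hP) (i - 1)
      have h0 : ∀ q, i - 1 + 1 < q → IsZero (DCoh.HD (DCoh.toD _ P) q) := fun q hq =>
        IsZero.of_iso (((Scheme.Modules.restrictFunctor W.ι).map_isZero
          (hz q (by omega))).of_iso (he q).some.symm) (KFlat.hdIso P q)
      have := PCoh.isFP_top hpc h0
      have t : ∀ q : ℤ, q = i → CohB1.IsFP (DCoh.HD (DCoh.toD _ P) q) →
          CohB1.IsFP (DCoh.HD (DCoh.toD _ P) i) := by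
        rintro q rfl h; exact h
      exact t _ (by omega) this
    have : (DCoh.HD (DCoh.toD _ P) i).IsQuasicoherent := by have := hfp; infer_instance
    exact (Groth.PropsBasic.LocFree.isFinLocFree_iff _).2 ⟨hfp, fun v =>
      have : Module.Free ((W : Scheme.{u}).presheaf.stalk v) ((stk v).obj (P.homology i)) :=
        free_stalk_homology hP v i ((hb v _).trans (if_neg (by omega)))
          ((hb v _).trans (if_neg (by omega)))
      Module.Free.of_equiv ((stk v).mapIso eP.symm).toLinearEquiv⟩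
  have : G.IsGE i := (DerivedCategory.isGE_iff G i).2 fun q hq => hz q (by omega)
  have : G.IsLE i := (DerivedCategory.isLE_iff G i).2 fun q hq => hz q (by omega)
  obtain ⟨V, ⟨e⟩⟩ := DerivedCategory.exists_iso_singleFunctor_obj_of_isGE_of_isLE G i
  let eV : DCoh.HD G i ≅ V := (DerivedCategory.homologyFunctor _ i).mapIso e ≪≫
    KFlat.hdIso ((HomologicalComplex.single X.Modules up i).obj V) i ≪≫
    HomologicalComplex.singleObjHomologySelfIso up i V
  have hV := Groth.KTheory.LocFree.isFinLocFree_of_iso eV hfl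
  let e' : G ≅ (DCoh.inD X V)⟦-i⟧ :=
    e ≪≫ (((DerivedCategory.singleFunctors X.Modules).shiftIso (-i) i 0 (neg_add_cancel i)).app V).symm
  refine ⟨V, Groth.LocFree.isFinLocFreeOfRank_iff_finrank.2 ⟨hV, fun x => ?_⟩, ⟨e'⟩⟩
  have hx := h x i
  let F := (HomologicalComplex.single X.Modules up i).obj V
  have hF : IsKFlat (T X) F := isKFlat_single hV i
  rw [betti_eq_bRes hF (show DCoh.toD X F ≅ G from e.symm), bRes_single, if_pos rfl,
    finrank_fibF_resS hV, if_pos rfl] at hx
  exact hx

/-- the fibres of an inverse image -/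
theorem betti_Lpull [∀ x : X, DCoh.HasLpull (X.fromSpecResidueField x)]
    [∀ y : Y, DCoh.HasLpull (Y.fromSpecResidueField y)] (f : Y ⟶ X) [DCoh.HasLpull f]
    (E : DCoh.D X) (y : Y) (q : ℤ) :
    PerfD.betti ((DCoh.Lpull f).obj E) y q = PerfD.betti E (f y) q := by
  obtain ⟨F₀, ⟨e₀⟩⟩ := Groth.KTheory.Perf.exists_rep E
  have := KFlat.flatResolution_quasiIso F₀
  let F := (KFlat.flatResolution X).obj F₀
  have hF : IsKFlat (T X) F := KFlat.flatResolution_isKFlat F₀
  let e : DCoh.toD X F ≅ E :=
    asIso (DerivedCategory.Q.map ((KFlat.flatResolutionAug X).app F₀)) ≪≫ e₀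
  rw [betti_eq_bRes hF e, betti_eq_bRes (KFlat.isKFlat_pullCx f F hF)
    ((KFlat.lpullQIso f F hF).symm ≪≫ (DCoh.Lpull f).mapIso e), bRes_pullCx]

/-- the locus where a perfect object has fibres in degree `i` of rank `r` is open -/
theorem isOpen_concentrated [∀ x : X, DCoh.HasLpull (X.fromSpecResidueField x)] {E : DCoh.D X}
    (hE : DCoh.IsPerfect E) (i : ℤ) (r : ℕ) :
    IsOpen {x : X | ∀ q, PerfD.betti E x q = if q = i then r else 0} := by
  rw [isOpen_iff_forall_mem_open]
  intro x hx
  obtain ⟨W, hxW, P, hP, ⟨e⟩⟩ := (Groth.KTheory.Perf.isPerfect_iff E).1 hE x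
  obtain ⟨⟨a, b, hab⟩, -⟩ := id hP
  have hout : ∀ q, q ∉ Finset.Icc a b → ∀ y ∈ W, PerfD.betti E y q = 0 := fun q hq y hy => by
    simp only [Finset.mem_Icc, not_and_or, not_le] at hq
    refine (bRes_eq_betti_of_near E W.ι hP e.inv (PCoh.near_of_isIso (m := q - 1) e.inv) ⟨y, hy⟩ q
      (by omega)).trans ?_
    have hz : IsZero ((((fibF (resS (⟨y, hy⟩ : (W : Scheme.{u})))).mapHomologicalComplex up).obj P).homology q) :=
      (HomologicalComplex.ExactAt.of_isZero
        (Functor.map_isZero _ (hab q hq) : IsZero ((fibF (resS (⟨y, hy⟩ : (W : Scheme.{u})))).obj (P.X q)))).isZero_homology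
    have := ModuleCat.subsingleton_of_isZero hz
    exact Module.finrank_zero_of_subsingleton
  let O : Set X := (W : Set X) ∩ {y | PerfD.eulerChar E y = PerfD.eulerChar E x} ∩
    ⋂ q ∈ Finset.Icc a b, {y | PerfD.betti E y q < (if q = i then r else 0) + 1}
  have hO : IsOpen O :=
    (W.2.inter ((isLocallyConstant_eulerChar E hE).isOpen_fiber _)).inter
      (isOpen_biInter_finset fun q _ => isOpen_betti_lt E
        (PCoh.isPseudoCoherentD_of_isPerfect hE (q - 1)) q (by omega) _)
  refine ⟨O, fun y hy => ?_, hO, ⟨hxW, rfl⟩, Set.mem_iInter₂.2 fun q _ => by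
    simp only [Set.mem_ofPred_eq, hx q]; omega⟩
  obtain ⟨⟨hyW, hye⟩, hyq⟩ := hy
  have hzero : ∀ q, q ≠ i → PerfD.betti E y q = 0 := fun q hq => by
    by_cases hab' : q ∈ Finset.Icc a b
    · have := Set.mem_iInter₂.1 hyq q hab'
      simp only [Set.mem_ofPred_eq, if_neg hq] at this
      omega
    · exact hout q hab' y hyW
  have hsum : ∀ z : X, (∀ q, q ≠ i → PerfD.betti E z q = 0) →
      PerfD.eulerChar E z = (i.negOnePow : ℤ) * (PerfD.betti E z i : ℤ) := fun z hz => by
    rw [PerfD.eulerChar]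
    exact finsum_eq_single _ i fun q hq => by rw [hz q hq]; simp
  intro q
  by_cases hq : q = i
  · subst hq
    rw [if_pos rfl]
    have h1 : PerfD.eulerChar E y = PerfD.eulerChar E x := hye
    rw [hsum y hzero, hsum x fun q' hq' => (hx q').trans (if_neg hq'), hx q, if_pos rfl] at h1
    exact_mod_cast mul_left_cancel₀ (Units.ne_zero _) h1
  · rw [if_neg hq]
    exact hzero q hq

/-- the open locus where a perfect object is locally free of rank `r` in degree `i` -/
theorem exists_open_concentrated (E : DCoh.D X) (hE : DCoh.IsPerfect E) (i : ℤ) (r : ℕ) :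
    ∃ U : X.Opens, ∀ (Y : Scheme.{u}) (f : Y ⟶ X) [DCoh.HasLpull f],
      Set.range f.base ⊆ (U : Set X) ↔
        ∃ V : Y.Modules, FlatMod.IsFinLocFreeOfRank r V ∧
          Nonempty ((DCoh.Lpull f).obj E ≅ (DCoh.inD Y V)⟦-i⟧) := by
  have := fun x : X => KFlat.hasLpull (X.fromSpecResidueField x)
  refine ⟨⟨_, isOpen_concentrated hE i r⟩, fun Y f _ => ?_⟩
  have := fun y : Y => KFlat.hasLpull (Y.fromSpecResidueField y)
  constructor
  · intro hf
    refine exists_iso_shift (PCoh.isPerfect_Lpull f hE) i r fun y q => ?_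
    rw [betti_Lpull f E y q]
    exact hf ⟨y, rfl⟩ q
  · rintro ⟨V, hV, ⟨e⟩⟩ _ ⟨y, rfl⟩ q
    exact (betti_Lpull f E y q).symm.trans (betti_of_locFree hV i e y q)

end Groth.DerivedCoh.Fibre
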