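import Groth.Agent.DerivedCoh.Fibre.Free
import Groth.Agent.DerivedCoh.PCoh.Pullback
import Groth.Agent.KTheory.PerfFree
import Groth.Agent.FlatCxBase.Core
import Groth.Prelude.Def_PerfD

/-!
Betti numbers of the derived fibres of an object near a complex of finite free modules.
-/

universe u

open CategoryTheory CategoryTheory.Limits CategoryTheory.Pretriangulated AlgebraicGeometry
  TopologicalSpace Opposite
open Groth.DerivedCoh.KFlat (stk T pullCx IsKFlat)
open Groth.KTheory.Perf (Rd Rc rdQIso)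
open Groth.DerivedCoh.PCoh (Near)

namespace Groth.DerivedCoh.Fibre

attribute [local instance] HasDerivedCategory.standard

local notation "up" => ComplexShape.up ℤ

section field

variable {K : Type u} [Field K]

/-- dimension of the cohomology of a complex of vector spaces -/
lemma finrank_homology_add (C : CochainComplex (ModuleCat.{u} K) ℤ) (p : ℤ)
    [Module.Finite K (C.X p)] :
    Module.finrank K (C.homology p) + Module.finrank K (LinearMap.range (C.d (p - 1) p).hom) +
      Module.finrank K (LinearMap.range (C.d p (p + 1)).hom) = Module.finrank K (C.X p) := by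
  let f := (C.d (p - 1) p).hom
  let g := (C.d p (p + 1)).hom
  have hgf : LinearMap.range f ≤ LinearMap.ker g := by
    rintro _ ⟨x, rfl⟩
    exact ConcreteCategory.congr_hom (C.d_comp_d (p - 1) p (p + 1)) x
  have h1 : Module.finrank K (C.homology p) + Module.finrank K (LinearMap.range f) =
      Module.finrank K (LinearMap.ker g) := by
    rw [← (Groth.FlatCxBase.homologyEquivQuot C (Groth.FlatCxBase.cochain_prev p)
      (Groth.FlatCxBase.cochain_next p)).finrank_eq,
      ← (Submodule.comapSubtypeEquivOfLe hgf).finrank_eq]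
    exact Submodule.finrank_quotient_add_finrank _
  have h2 := LinearMap.finrank_range_add_finrank_ker g
  have h3 : Module.finrank K (LinearMap.range g) =
      Module.finrank K (LinearMap.range (C.d p (p + 1)).hom) := rfl
  have h4 : Module.finrank K (LinearMap.range f) =
      Module.finrank K (LinearMap.range (C.d (p - 1) p).hom) := rfl
  omega

lemma finrank_range_conj {A B A' B' : ModuleCat.{u} K} (a : A ≅ A') (b : B ≅ B') (f : A ⟶ B)
    (f' : A' ⟶ B') (h : f ≫ b.hom = a.hom ≫ f') :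
    Module.finrank K (LinearMap.range f.hom) = Module.finrank K (LinearMap.range f'.hom) := by
  have hf : f' = a.inv ≫ f ≫ b.hom := by rw [h, Iso.inv_hom_id_assoc]
  have : f'.hom = b.toLinearEquiv.toLinearMap ∘ₗ f.hom ∘ₗ a.symm.toLinearEquiv.toLinearMap := by
    rw [hf]; rfl
  rw [this, LinearMap.range_comp, LinearMap.range_comp_of_range_eq_top _ (LinearEquiv.range _)]
  exact (LinearEquiv.submoduleMap b.toLinearEquiv _).finrank_eq

end field

section point

variable {S : Scheme.{u}} [Subsingleton S]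

lemma eq_top_of_mem {s : S} {W : S.Opens} (h : s ∈ W) : W = ⊤ :=
  eq_top_iff.2 fun t _ => Subsingleton.elim s t ▸ h

lemma germ_top_bijective (M : S.Modules) (s : S) :
    Function.Bijective (Groth.QCohMod.germ M s (U := ⊤) trivial) := by
  constructor
  · intro a b hab
    obtain ⟨W, hW, i₁, i₂, e⟩ := TopCat.Presheaf.germ_eq M.presheaf s (show s ∈ (⊤ : S.Opens) from Opens.mem_top s) (show s ∈ (⊤ : S.Opens) from Opens.mem_top s) a b hab
    obtain rfl := eq_top_of_mem hW
    rw [Subsingleton.elim i₁ (𝟙 ⊤), Subsingleton.elim i₂ (𝟙 ⊤), op_id,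
      CategoryTheory.Functor.map_id] at e
    exact e
  · intro t
    obtain ⟨W, hW, a, rfl⟩ := Groth.QCohMod.exists_germ M s t
    obtain rfl := eq_top_of_mem hW
    exact ⟨a, rfl⟩

lemma germ_top_bijective' (s : S) : Function.Bijective (S.presheaf.germ ⊤ s trivial) := by
  constructor
  · intro a b hab
    obtain ⟨W, hW, i₁, i₂, e⟩ := TopCat.Presheaf.germ_eq S.presheaf s (show s ∈ (⊤ : S.Opens) from Opens.mem_top s) (show s ∈ (⊤ : S.Opens) from Opens.mem_top s) a b hab
    obtain rfl := eq_top_of_mem hW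
    rw [Subsingleton.elim i₁ (𝟙 ⊤), Subsingleton.elim i₂ (𝟙 ⊤), op_id,
      CategoryTheory.Functor.map_id] at e
    exact e
  · intro t
    obtain ⟨W, hW, a, rfl⟩ := TopCat.Presheaf.exists_germ_eq S.presheaf t
    obtain rfl := eq_top_of_mem hW
    exact ⟨a, rfl⟩

lemma finrank_sections_eq (M : S.Modules) (s : S) :
    Module.finrank (Coh.Γtop S) (M.val.obj (op ⊤)) =
      Module.finrank (S.presheaf.stalk s) ((stk s).obj M) :=
  congrArg Cardinal.toNat (rank_eq_of_equiv_equiv (fun r : Coh.Γtop S => S.presheaf.germ ⊤ s trivial r)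
    (AddEquiv.ofBijective (Groth.QCohMod.germ M s (U := ⊤) trivial) (germ_top_bijective M s))
    (germ_top_bijective' s) fun r m => Groth.QCohMod.germ_smul M s (show s ∈ (⊤ : S.Opens) from Opens.mem_top s) r m)

end point

lemma isField_stalk_spec (K : CommRingCat.{u}) (hK : IsField K) (s : Spec K) :
    IsField ((Spec K).presheaf.stalk s) := by
  letI := hK.toField
  have : Subsingleton (Spec K) := inferInstanceAs (Subsingleton (PrimeSpectrum K))
  exact MulEquiv.isField hK
    ((RingEquiv.ofBijective ((Spec K).presheaf.germ ⊤ s trivial).hom (germ_top_bijective' s)).symm.trans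
      (Scheme.ΓSpecIso K).commRingCatIsoToRingEquiv).toMulEquiv

variable {X U : Scheme.{u}}

/-- the stalk map, seen at an equal point -/
noncomputable def phiPt {S : Scheme.{u}} (g : S ⟶ U) (s : S) {v : U} (h : g s = v) :
    U.presheaf.stalk v →+* S.presheaf.stalk s :=
  h ▸ (g.stalkMap s).hom

instance {S : Scheme.{u}} (g : S ⟶ U) (s : S) {v : U} (h : g s = v) :
    IsLocalHom (phiPt g s h) := by
  subst h
  exact inferInstanceAs (IsLocalHom (g.stalkMap s).hom)

/-- fibres of a near complex of modules compute the cohomology of the derived fibre -/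
theorem finrank_stk_hd {S : Scheme.{u}} (j : U ⟶ X) [IsOpenImmersion j] (g : S ⟶ U) (i : S ⟶ X)
    [DCoh.HasLpull i] (hfac : g ≫ j = i) (s : S) {v : U} (hv : g s = v) (E : DCoh.D X)
    {P : CochainComplex U.Modules ℤ} (hP : DCoh.IsStrictlyPerfect P) {m : ℤ}
    (α : DCoh.toD U P ⟶ (Rd j).obj E) (hα : Near m α) (p : ℤ) (hp : m < p) :
    Module.finrank (S.presheaf.stalk s) ((stk s).obj (DCoh.HD ((DCoh.Lpull i).obj E) p)) =
      Module.finrank (S.presheaf.stalk s)
        ((((fibF (phiPt g s hv)).mapHomologicalComplex up).obj P).homology p) := by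
  subst hv
  have := KFlat.hasLpull g
  obtain ⟨F₀, ⟨e₀⟩⟩ := Groth.KTheory.Perf.exists_rep E
  have := KFlat.flatResolution_quasiIso F₀
  let F := (KFlat.flatResolution X).obj F₀
  have hF : IsKFlat (T X) F := KFlat.flatResolution_isKFlat F₀
  let e : DCoh.toD X F ≅ E :=
    asIso (DerivedCategory.Q.map ((KFlat.flatResolutionAug X).app F₀)) ≪≫ e₀
  let pi : Scheme.Modules.pullback i ≅
      Scheme.Modules.restrictFunctor j ⋙ Scheme.Modules.pullback g :=
    Scheme.Modules.pullbackCongr hfac.symm ≪≫ (Scheme.Modules.pullbackComp _ _).symm ≪≫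
      Functor.isoWhiskerRight (Scheme.Modules.restrictFunctorIsoPullback j).symm _
  let c : (DCoh.Lpull i).obj E ≅ (DCoh.Lpull g).obj ((Rd j).obj E) :=
    (DCoh.Lpull i).mapIso e.symm ≪≫ KFlat.lpullQIso i F hF ≪≫
      DerivedCategory.Q.mapIso ((NatIso.mapHomologicalComplex pi up).app F) ≪≫
      (KFlat.lpullQIso g ((Rc j).obj F) (PCoh.isKFlat_rc j hF)).symm ≪≫
      (DCoh.Lpull g).mapIso ((rdQIso j F).symm ≪≫ (Rd j).mapIso e)
  obtain ⟨C, v₁, w₁, hT⟩ := distinguished_cocone_triangle α
  obtain ⟨T', hT', ⟨i₁⟩, ⟨i₂⟩, ⟨i₃⟩⟩ := KFlat.exists_triangle (Scheme.Modules.pullback g)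
    (DCoh.Lpull g) (fun Q hQ => ⟨KFlat.lpullQIso _ Q hQ⟩) _ hT
  have hb : PCoh.Below m T'.obj₃ :=
    (PCoh.below_Lpull _ (PCoh.below_of_near _ hT hα)).of_iso i₃.symm
  have := (PCoh.near_of_below _ hT' hb).1 p hp
  let q : DCoh.HD ((DCoh.Lpull i).obj E) p ≅ ((pullCx g).obj P).homology p :=
    (DerivedCategory.homologyFunctor _ p).mapIso (c ≪≫ i₂.symm) ≪≫
      (asIso ((DerivedCategory.homologyFunctor _ p).map T'.mor₁)).symm ≪≫
      (DerivedCategory.homologyFunctor _ p).mapIso
        (i₁ ≪≫ KFlat.lpullQIso g P (PCoh.isKFlat_of_isStrictlyPerfect hP)) ≪≫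
      KFlat.hdIso _ p
  let r : (stk s).obj (((pullCx g).obj P).homology p) ≅
      (((fibF (phiPt g s rfl)).mapHomologicalComplex up).obj P).homology p :=
    ((((pullCx g).obj P).sc p).mapHomologyIso (stk s)).symm ≪≫
      (HomologicalComplex.homologyFunctor (ModuleCat.{u} (S.presheaf.stalk s)) up p).mapIso
        ((NatIso.mapHomologicalComplex (KFlat.pullStkIso g s) up).app P)
  exact ((stk s).mapIso q ≪≫ r).toLinearEquiv.finrank_eq

/-- betti numbers of an object near a complex with free terms -/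
theorem betti_add (j : U ⟶ X) [IsOpenImmersion j] [∀ x : X, DCoh.HasLpull (X.fromSpecResidueField x)]
    (E : DCoh.D X) (x : X) (g : Spec (X.residueField x) ⟶ U)
    (hfac : g ≫ j = X.fromSpecResidueField x) (s : Spec (X.residueField x)) {v : U} (hv : g s = v)
    {P : CochainComplex U.Modules ℤ} (hP : DCoh.IsStrictlyPerfect P) {m : ℤ}
    (α : DCoh.toD U P ⟶ (Rd j).obj E) (hα : Near m α) (p : ℤ) (hp : m < p) {n : ℕ}
    (e : P.X p ≅ FlatMod.freeMod U n) :
    PerfD.betti E x p + rkF (phiPt g s hv) (P.d (p - 1) p) + rkF (phiPt g s hv) (P.d p (p + 1)) = n := by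
  letI := (isField_stalk_spec (X.residueField x) (Field.toIsField _) s).toField
  have : Subsingleton (Spec (X.residueField x)) :=
    inferInstanceAs (Subsingleton (PrimeSpectrum (X.residueField x)))
  let F := fibF (phiPt g s hv)
  let C := (F.mapHomologicalComplex up).obj P
  let eC : C.X p ≅ F.obj (FlatMod.freeMod U n) := F.mapIso e
  have := finite_fibF_free (phiPt g s hv) n
  have : Module.Finite _ (C.X p) := Module.Finite.equiv eC.symm.toLinearEquiv
  have h1 : PerfD.betti E x p = Module.finrank ((Spec (X.residueField x)).presheaf.stalk s) (C.homology p) := by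
    unfold PerfD.betti
    rw [finrank_sections_eq _ s]
    exact finrank_stk_hd j g _ hfac s hv E hP α hα p hp
  have h2 := finrank_homology_add C p
  have h3 : Module.finrank ((Spec (X.residueField x)).presheaf.stalk s) (C.X p) = n :=
    eC.toLinearEquiv.finrank_eq.trans (finrank_fibF_free _ n)
  rw [h1]
  exact h2.trans h3

lemma rkF_conj {x : U} {K : Type u} [Field K] (φ : U.presheaf.stalk x →+* K) {M N M' N' : U.Modules}
    (a : M ≅ M') (b : N ≅ N') (f : M ⟶ N) :
    rkF φ f = rkF φ (a.inv ≫ f ≫ b.hom) :=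
  finrank_range_conj ((fibF φ).mapIso a) ((fibF φ).mapIso b) _ _ (by
    simp only [Functor.mapIso_hom, ← Functor.map_comp, Iso.hom_inv_id_assoc])

/-- rank of a map between modules isomorphic to free ones -/
theorem isOpen_le_rkF' {K : U → Type u} [∀ x, Field (K x)]
    (φ : ∀ x : U, U.presheaf.stalk x →+* K x) [∀ x, IsLocalHom (φ x)] {a b : ℕ} {M N : U.Modules}
    (ea : M ≅ FlatMod.freeMod U a) (eb : N ≅ FlatMod.freeMod U b) (f : M ⟶ N) (r : ℕ) :
    IsOpen {x : U | r ≤ rkF (φ x) f} := by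
  simp only [rkF_conj _ ea eb f]
  exact isOpen_le_rkF φ _ r

/-- Betti numbers above the degree of a near complex of free modules: sums with two lower
semicontinuous ranks are constant. -/
theorem betti_eq_on [∀ x : X, DCoh.HasLpull (X.fromSpecResidueField x)] (E : DCoh.D X)
    (j : U ⟶ X) [IsOpenImmersion j] {P : CochainComplex U.Modules ℤ} (n : ℤ → ℕ)
    (e : ∀ q, P.X q ≅ FlatMod.freeMod U (n q)) (hP : DCoh.IsStrictlyPerfect P) {m : ℤ}
    (α : DCoh.toD U P ⟶ (Rd j).obj E) (hα : Near m α) :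
    ∃ R : ℤ → U → ℕ, (∀ q r, IsOpen {v | r ≤ R q v}) ∧ (∀ q v, IsZero (P.X q) → R q v = 0) ∧
      ∀ p, m < p → ∀ v : U, PerfD.betti E (j v) p + R (p - 1) v + R p v = n p := by
  let pt (v : U) : Spec (X.residueField (j v)) :=
    IsLocalRing.closedPoint (X.residueField (j v))
  have hg : ∀ v : U, ∃ g : Spec (X.residueField (j v)) ⟶ U,
      g ≫ j = X.fromSpecResidueField (j v) ∧
      g (pt v) = v := fun v => by
    have h : Set.range (X.fromSpecResidueField (j v)) ⊆ Set.range j := by
      rw [Scheme.range_fromSpecResidueField, Set.singleton_subset_iff]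
      exact ⟨v, rfl⟩
    refine ⟨IsOpenImmersion.lift j _ h, IsOpenImmersion.lift_fac _ _ _, j.injective ?_⟩
    rw [← Scheme.Hom.comp_apply, IsOpenImmersion.lift_fac]
    have h' := Set.mem_range_self (f := X.fromSpecResidueField (j v)) (pt v)
    rw [Scheme.range_fromSpecResidueField] at h'
    exact h'
  choose g hfac hpt using hg
  letI (v : U) : Field ((Spec (X.residueField (j v))).presheaf.stalk (pt v)) :=
    (isField_stalk_spec _ (Field.toIsField _) _).toField
  let φ (v : U) := phiPt (g v) _ (hpt v)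
  refine ⟨fun q v => rkF (φ v) (P.d q (q + 1)),
    fun q r => isOpen_le_rkF' φ (e q) (e (q + 1)) _ r, fun q v hq => ?_, fun p hp v => ?_⟩
  · change Module.finrank _ (LinearMap.range ((fibF (φ v)).map (P.d q (q + 1))).hom) = 0
    rw [hq.eq_of_src (P.d q (q + 1)) 0, Functor.map_zero, ModuleCat.hom_zero, LinearMap.range_zero]
    exact finrank_bot _ _
  · have h := betti_add j E (j v) (g v) (hfac v) _ (hpt v) hP α hα p hp (e p)
    have t : ∀ q, q = p → rkF (φ v) (P.d (p - 1) q) = rkF (φ v) (P.d (p - 1) p) := by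
      rintro _ rfl; rfl
    change _ + rkF (φ v) (P.d (p - 1) (p - 1 + 1)) + _ = _
    rw [t (p - 1 + 1) (by omega)]
    exact h

/-- openness of upper bounds -/
theorem isOpen_betti_lt [∀ x : X, DCoh.HasLpull (X.fromSpecResidueField x)] {m : ℤ} (E : DCoh.D X)
    (hE : DCoh.IsPseudoCoherentD m E) (p : ℤ) (hp : m < p) (k : ℕ) :
    IsOpen {x : X | PerfD.betti E x p < k} := by
  rw [isOpen_iff_forall_mem_open]
  intro x hx
  obtain ⟨V, hxV, F, α, hF, hα⟩ := (PCoh.isPseudoCoherentD_iff m E).1 hE x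
  obtain ⟨⟨a, b, hab⟩, hfl⟩ := id hF
  obtain ⟨W, hxW, hW⟩ := Groth.KTheory.Perf.exists_free_nhd F (Finset.Icc a b) (fun i _ => hfl i)
    ⟨x, hxV⟩
  obtain ⟨c⟩ := Groth.KTheory.Perf.nonempty_rdComp (k := W.ι) (j := V.ι) (l := W.ι ≫ V.ι) rfl E
  have hn : ∀ q, ∃ n : ℕ, Nonempty (((Rc W.ι).obj F).X q ≅ FlatMod.freeMod (↑W) n) := fun q => by
    by_cases hq : q ∈ Finset.Icc a b
    · exact hW q hq
    · simp only [Finset.mem_Icc, not_and_or, not_le] at hq
      exact ⟨0, Groth.KTheory.Perf.nonempty_free_zero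
        (Groth.KTheory.Perf.rc_isZero W.ι (hab q hq))⟩
  choose n hn using hn
  obtain ⟨R, hR, -, hbetti⟩ := betti_eq_on E (W.ι ≫ V.ι) n (fun q => (hn q).some)
    (Groth.KTheory.Perf.rc_isStrictlyPerfect W.ι hF) ((rdQIso W.ι F).inv ≫ (Rd W.ι).map α ≫ c.inv)
    ((PCoh.near_of_isIso _).comp ((PCoh.near_rd _ hα).comp (PCoh.near_of_isIso _)))
  let v₀ : (W : Scheme.{u}) := ⟨⟨x, hxV⟩, hxW⟩
  refine ⟨(W.ι ≫ V.ι) '' ({v | R (p - 1) v₀ ≤ R (p - 1) v} ∩ {v | R p v₀ ≤ R p v}), ?_,
    (W.ι ≫ V.ι).isOpenEmbedding.isOpenMap _ ((hR _ _).inter (hR _ _)), v₀,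
    ⟨le_rfl (a := R (p - 1) v₀), le_rfl (a := R p v₀)⟩, rfl⟩
  rintro _ ⟨v, ⟨h1, h2⟩, rfl⟩
  have e1 := hbetti p hp v
  have e0 := hbetti p hp v₀
  have hx' : PerfD.betti E ((W.ι ≫ V.ι) v₀) p < k := hx
  simp only [Set.mem_ofPred_eq] at h1 h2 ⊢
  omega

/-- the alternating sum telescopes -/
lemma finsum_altern (B R : ℤ → ℕ) (n : ℤ → ℕ) (hR : (Function.support R).Finite)
    (hn : (Function.support n).Finite) (h : ∀ p, B p + R (p - 1) + R p = n p) :
    ∑ᶠ p : ℤ, ((p.negOnePow : ℤˣ) : ℤ) * (B p : ℤ) = ∑ᶠ p : ℤ, ((p.negOnePow : ℤˣ) : ℤ) * (n p : ℤ) := by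
  let f : ℤ → ℤ := fun p => ((p.negOnePow : ℤˣ) : ℤ) * (R p : ℤ)
  have hf : (Function.support f).Finite := hR.subset fun p hp h0 => hp (by simp [f, h0])
  have hf' : (Function.support fun p => f (p - 1)).Finite := by
    refine (hf.image (· + 1)).subset fun p hp => ⟨p - 1, hp, by simp⟩
  have hN : (Function.support fun p : ℤ => ((p.negOnePow : ℤˣ) : ℤ) * (n p : ℤ)).Finite :=
    hn.subset fun p hp h0 => hp (by simp [h0])
  have key : ∀ p : ℤ, ((p.negOnePow : ℤˣ) : ℤ) * (B p : ℤ) =
      ((p.negOnePow : ℤˣ) : ℤ) * (n p : ℤ) + (f (p - 1) - f p) := fun p => by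
    simp only [f, Int.negOnePow_sub, Int.negOnePow_one]
    rw [← h p]
    push_cast
    ring
  rw [finsum_congr key, finsum_add_distrib hN ((hf'.union hf).subset (Function.support_sub _ _)),
    finsum_sub_distrib hf' hf]
  have := finsum_comp_equiv (Equiv.subRight (1 : ℤ)) (f := f)
  simp only [Equiv.subRight_apply] at this
  rw [this, sub_self, add_zero]

theorem isLocallyConstant_eulerChar [∀ x : X, DCoh.HasLpull (X.fromSpecResidueField x)]
    (E : DCoh.D X) (hE : DCoh.IsPerfect E) :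
    IsLocallyConstant (fun x : X => PerfD.eulerChar E x) := by
  rw [IsLocallyConstant.iff_exists_open]
  intro x
  obtain ⟨V, hxV, hV⟩ := (Groth.KTheory.Perf.isPerfect_iff_free E).1 hE x
  obtain ⟨F, ⟨i⟩⟩ := Groth.KTheory.Perf.exists_rep E
  obtain ⟨P, a, b, hab, hfree, ⟨e⟩⟩ := hV F ⟨i⟩
  choose n hn using hfree
  let n' : ℤ → ℕ := fun q => if q ∈ Finset.Icc a b then n q else 0
  have hn' : ∀ q, Nonempty (P.X q ≅ FlatMod.freeMod (V : Scheme.{u}) (n' q)) := fun q => by
    by_cases hq : q ∈ Finset.Icc a b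
    · simp only [n', if_pos hq]; exact hn q
    · simp only [n', if_neg hq]
      simp only [Finset.mem_Icc, not_and_or, not_le] at hq
      exact Groth.KTheory.Perf.nonempty_free_zero (hab q hq)
  have hP : DCoh.IsStrictlyPerfect P := ⟨⟨a, b, hab⟩, fun q => Groth.KTheory.LocFree.isFinLocFree_of_iso
    (hn' q).some.symm (Groth.LocFree.isFinLocFree_freeMod _ _)⟩
  let α : DCoh.toD _ P ⟶ (Rd V.ι).obj E := (e.symm ≪≫ (rdQIso V.ι F).symm ≪≫ (Rd V.ι).mapIso i).hom
  refine ⟨V, V.2, hxV, fun y hy => ?_⟩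
  have key : ∀ v : (V : Scheme.{u}), PerfD.eulerChar E (V.ι v) =
      ∑ᶠ p : ℤ, ((p.negOnePow : ℤˣ) : ℤ) * (n' p : ℤ) := fun v => by
    -- below `a` everything vanishes
    obtain ⟨R, -, hR0, hbetti⟩ := betti_eq_on E V.ι n' (fun q => (hn' q).some) hP α
      (PCoh.near_of_isIso (m := a - 1) α)
    refine finsum_altern _ (fun q => if a ≤ q then R q v else 0) n'
      ((Finset.Icc a b).finite_toSet.subset fun q hq => ?_)
      ((Finset.Icc a b).finite_toSet.subset fun q hq => by
        by_contra h; exact hq (if_neg h)) fun p => ?_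
    · by_contra h
      simp only [Finset.coe_Icc, Set.mem_Icc, not_and_or, not_le] at h
      apply hq
      change (if a ≤ q then R q v else 0) = 0
      split_ifs with hq'
      · exact hR0 q v (hab q h)
      · rfl
    · obtain ⟨R', -, hR0', hbetti'⟩ := betti_eq_on E V.ι n' (fun q => (hn' q).some) hP α
        (PCoh.near_of_isIso (m := p - 1) α)
      by_cases hp : a ≤ p
      · have := hbetti p (by omega) v
        rw [if_pos hp]
        split_ifs with hp'
        · exact this
        · have h0 := hR0 (p - 1) v (hab _ (.inl (by omega)))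
          omega
      · have h0 := hbetti' p (by omega) v
        have hz : n' p = 0 := if_neg fun h => hp (Finset.mem_Icc.1 h).1
        rw [if_neg hp, if_neg (by omega)]
        omega
  exact (key ⟨y, hy⟩).trans (key ⟨x, hxV⟩).symm

end Groth.DerivedCoh.Fibre
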