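import Groth.Agent.DerivedCoh.KFlat.SchemePullback
import Groth.Agent.LocFree.Rank
import Groth.Agent.PropsBasic.LocFree
import Groth.Agent.QCohMod.Affine
import Mathlib.LinearAlgebra.Dimension.Finrank
import Mathlib.LinearAlgebra.Matrix.Basis
import Mathlib.LinearAlgebra.Matrix.NonsingularInverse

/-!
Fibres of maps of free modules along local homomorphisms from local rings into fields; lower
semicontinuity of their rank.
-/

universe u

open CategoryTheory CategoryTheory.Limits AlgebraicGeometry TopologicalSpace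
open Groth.DerivedCoh.KFlat (stk)

namespace Groth.DerivedCoh.Fibre

variable {U : Scheme.{u}}

/-- projection of a free module -/
noncomputable def prF (U : Scheme.{u}) (m : ℕ) (k : Fin m) :
    FlatMod.freeMod U m ⟶ Coh.structureModule U :=
  Sigma.desc fun j => if j = k then 𝟙 _ else 0

/-- inclusion in a free module -/
noncomputable def inF (U : Scheme.{u}) (m : ℕ) (k : Fin m) :
    Coh.structureModule U ⟶ FlatMod.freeMod U m :=
  Sigma.ι (fun _ : Fin m => Coh.structureModule U) k

lemma sum_app {R : Type u} [Ring R] {A B : ModuleCat.{u} R} {ι : Type*} (s : Finset ι)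
    (f : ι → (A ⟶ B)) (t : A) : (∑ i ∈ s, f i) t = ∑ i ∈ s, f i t := by
  change (∑ i ∈ s, f i).hom t = _
  rw [ModuleCat.hom_sum, LinearMap.sum_apply]

lemma sum_prF_inF (m : ℕ) : ∑ k, prF U m k ≫ inF U m k = 𝟙 (FlatMod.freeMod U m) := by
  refine Sigma.hom_ext _ _ fun j => ?_
  rw [Preadditive.comp_sum, Category.comp_id, Finset.sum_eq_single j]
  · simp [prF, inF]
  · intro k _ hk
    simp [prF, inF, hk.symm]
  · simp

section fib

variable {x : U} {K : Type u} [CommRing K] (φ : U.presheaf.stalk x →+* K)

/-- the fibre along `φ` -/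
noncomputable abbrev fibF : U.Modules ⥤ ModuleCat.{u} K :=
  stk x ⋙ ModuleCat.extendScalars.{u, u, u} φ

/-- `1 ⊗ t` -/
noncomputable def tm {M : U.Modules} (t : (stk x).obj M) : (fibF φ).obj M :=
  letI := φ.toAlgebra
  (show TensorProduct (U.presheaf.stalk x) K ((stk x).obj M) from (1 : K) ⊗ₜ t)

lemma fibF_map_tm {M N : U.Modules} (f : M ⟶ N) (t : (stk x).obj M) :
    (fibF φ).map f (tm φ t) = tm φ ((stk x).map f t) :=
  rfl

lemma tm_add {M : U.Modules} (s t : (stk x).obj M) : tm φ (s + t) = tm φ s + tm φ t := by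
  let _ := φ.toAlgebra
  exact TensorProduct.tmul_add _ _ _

lemma tm_smul {M : U.Modules} (r : U.presheaf.stalk x) (t : (stk x).obj M) :
    tm φ (r • t) = φ r • tm φ t := by
  letI := φ.toAlgebra
  change (1 : K) ⊗ₜ[U.presheaf.stalk x] (r • t) = (φ r * 1) ⊗ₜ[U.presheaf.stalk x] t
  rw [← TensorProduct.smul_tmul, Algebra.smul_def]
  rfl

lemma span_tm {M : U.Modules} {ι : Type*} (e : ι → (stk x).obj M)
    (he : Submodule.span (U.presheaf.stalk x) (Set.range e) = ⊤) :
    Submodule.span K (Set.range fun i => tm φ (e i)) = ⊤ := by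
  letI := φ.toAlgebra
  let S := Submodule.span K (Set.range fun i => tm φ (e i))
  have h : ∀ t, tm φ t ∈ S := fun t => by
    have ht : t ∈ Submodule.span (U.presheaf.stalk x) (Set.range e) := he ▸ Submodule.mem_top
    induction ht using Submodule.span_induction with
    | mem y hy =>
      obtain ⟨i, rfl⟩ := hy
      exact Submodule.subset_span ⟨i, rfl⟩
    | zero =>
      have h0 := tm_smul φ (0 : U.presheaf.stalk x) (0 : (stk x).obj M)
      rw [zero_smul, map_zero, zero_smul] at h0
      rw [h0]
      exact S.zero_mem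
    | add a b _ _ ha hb => rw [tm_add]; exact S.add_mem ha hb
    | smul r a _ ha => rw [tm_smul]; exact S.smul_mem _ ha
  rw [eq_top_iff]
  rintro z -
  induction (show TensorProduct (U.presheaf.stalk x) K ((stk x).obj M) from z)
      using TensorProduct.induction_on with
  | zero => exact S.zero_mem
  | add a b ha hb => exact S.add_mem ha hb
  | tmul c t =>
    have hct : (c ⊗ₜ[U.presheaf.stalk x] t : TensorProduct (U.presheaf.stalk x) K ((stk x).obj M)) =
        c • ((1 : K) ⊗ₜ[U.presheaf.stalk x] t) := by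
      rw [TensorProduct.smul_tmul', smul_eq_mul, mul_one]
    rw [hct]
    exact S.smul_mem c (h t)

/-- the unit germ -/
noncomputable def oneGerm (x : U) : (stk x).obj (Coh.structureModule U) :=
  Groth.QCohMod.germ (Coh.structureModule U) x (U := ⊤) trivial (1 : Γ(U, ⊤))

lemma germ_structure (W : U.Opens) (hx : x ∈ W) (s : Γ(U, W)) :
    Groth.QCohMod.germ (Coh.structureModule U) x hx s =
      (U.presheaf.germ W x hx s • oneGerm x : (stk x).obj (Coh.structureModule U)) := by
  have h1 : Groth.QCohMod.germ (Coh.structureModule U) x hx (1 : Γ(U, W)) = oneGerm x := by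
    have := TopCat.Presheaf.germ_res_apply (Coh.structureModule U).presheaf
      (homOfLE (le_top (a := W))) x hx (1 : Γ(U, ⊤))
    refine Eq.trans ?_ this
    congr 1
    exact (map_one (U.presheaf.map (homOfLE (le_top (a := W))).op).hom).symm
  rw [← h1]
  refine Eq.trans ?_ (Groth.QCohMod.germ_smul (Coh.structureModule U) x hx s (1 : Γ(U, W)))
  congr 1
  exact (mul_one s).symm

lemma span_oneGerm (x : U) :
    Submodule.span (U.presheaf.stalk x) (Set.range fun _ : Unit => oneGerm x) = ⊤ := by
  rw [eq_top_iff]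
  rintro t -
  obtain ⟨W, hW, s, rfl⟩ := Groth.QCohMod.exists_germ (Coh.structureModule U) x t
  have := germ_structure W hW s
  have h2 : (U.presheaf.germ W x hW s • oneGerm x) ∈ Submodule.span (U.presheaf.stalk x)
      (Set.range fun _ : Unit => oneGerm x) := Submodule.smul_mem _ _ (Submodule.subset_span ⟨(), rfl⟩)
  rw [← this] at h2
  exact h2

/-- basis vectors of a free module, in the stalk -/
noncomputable def eF (x : U) (m : ℕ) (k : Fin m) : (stk x).obj (FlatMod.freeMod U m) :=
  (stk x).map (inF U m k) (oneGerm x)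

lemma span_eF (x : U) (m : ℕ) :
    Submodule.span (U.presheaf.stalk x) (Set.range (eF x m)) = ⊤ := by
  rw [eq_top_iff]
  rintro t -
  have h : (∑ k, (stk x).map (prF U m k ≫ inF U m k)) t = t := by
    rw [← Functor.map_sum, sum_prF_inF, CategoryTheory.Functor.map_id]
    rfl
  rw [← h, sum_app]
  refine Submodule.sum_mem _ fun k _ => ?_
  rw [Functor.map_comp, ConcreteCategory.comp_apply]
  have hs : (stk x).map (prF U m k) t ∈ Submodule.span (U.presheaf.stalk x)
      (Set.range fun _ : Unit => oneGerm x) := span_oneGerm x ▸ Submodule.mem_top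
  obtain ⟨c, hc⟩ : ∃ c : U.presheaf.stalk x, c • oneGerm x = (stk x).map (prF U m k) t := by
    rw [Set.range_const] at hs
    exact Submodule.mem_span_singleton.1 hs
  rw [← hc, map_smul]
  exact Submodule.smul_mem _ _ (Submodule.subset_span ⟨k, rfl⟩)

lemma finrank_fibF_free [Nontrivial K] (m : ℕ) :
    Module.finrank K ((fibF φ).obj (FlatMod.freeMod U m)) = m := by
  letI := φ.toAlgebra
  have := Groth.LocFree.finite_stalk (Groth.LocFree.isFinLocFree_freeMod U m) x
  have : Module.Free (U.presheaf.stalk x) ((stk x).obj (FlatMod.freeMod U m)) :=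
    Groth.PropsBasic.LocFree.free_stalk _ (Groth.LocFree.isFinLocFree_freeMod U m) x
  have h := Groth.LocFree.finrank_stalk (Groth.LocFree.isFinLocFreeOfRank_freeMod U m) x
  exact (Module.finrank_baseChange (R := K) (S := U.presheaf.stalk x)
    (M' := ((stk x).obj (FlatMod.freeMod U m) : Type u))).trans h

lemma finite_fibF_free (m : ℕ) : Module.Finite K ((fibF φ).obj (FlatMod.freeMod U m)) :=
  ⟨⟨(Set.finite_range fun k => tm φ (eF x m k)).toFinset, by
    rw [Set.Finite.coe_toFinset]
    exact span_tm φ _ (span_eF x m)⟩⟩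

/-- the fibre of the free module of rank one is the fibre of the structure module -/
lemma tm_oneGerm_ne_zero [Nontrivial K] : tm φ (oneGerm x) ≠ 0 := fun h => by
  have h1 : (Set.range fun k => tm φ (eF x 1 k)) ⊆ {0} := by
    rintro _ ⟨k, rfl⟩
    change tm φ ((stk x).map _ _) = 0
    rw [← fibF_map_tm, h, map_zero]
  have h2 := span_tm φ _ (span_eF x 1)
  have h3 : Subsingleton ((fibF φ).obj (FlatMod.freeMod U 1)) := by
    refine subsingleton_of_forall_eq 0 fun z => ?_
    have hz : z ∈ (⊥ : Submodule K _) := Submodule.span_le.2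
      (fun a ha => (Submodule.mem_bot K).2 (h1 ha))
      (h2.ge (Submodule.mem_top : z ∈ (⊤ : Submodule K _)))
    exact (Submodule.mem_bot K).1 hz
  have := finrank_fibF_free φ 1
  rw [Module.finrank_zero_of_subsingleton] at this
  exact zero_ne_one this

/-- rank of the fibre of a map -/
noncomputable def rkF {M N : U.Modules} (d : M ⟶ N) : ℕ :=
  Module.finrank K (LinearMap.range ((fibF φ).map d).hom)

end fib

/-- value of a global function along `φ` -/
noncomputable def evF {x : U} {K : Type u} [CommRing K] (φ : U.presheaf.stalk x →+* K) :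
    Γ(U, ⊤) →+* K :=
  φ.comp (U.presheaf.germ ⊤ x trivial).hom

lemma mem_basicOpen_iff_evF {x : U} {K : Type u} [Field K] (φ : U.presheaf.stalk x →+* K)
    [IsLocalHom φ] (a : Γ(U, ⊤)) : x ∈ U.basicOpen a ↔ evF φ a ≠ 0 := by
  rw [U.mem_basicOpen a x trivial]
  exact ⟨fun h => (h.map φ).ne_zero, fun h => isUnit_of_map_unit φ _ (isUnit_iff_ne_zero.2 h)⟩

/-- matrix entries of a map into a free module -/
noncomputable def coef {M : U.Modules} {m : ℕ} (d : M ⟶ FlatMod.freeMod U m) (s : Γ(M, ⊤))
    (k : Fin m) : Γ(U, ⊤) :=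
  (d ≫ prF U m k).app ⊤ s

lemma fibF_pr_map {x : U} {K : Type u} [CommRing K] (φ : U.presheaf.stalk x →+* K) {M : U.Modules}
    {m : ℕ} (d : M ⟶ FlatMod.freeMod U m) (s : Γ(M, ⊤)) (k : Fin m) :
    (fibF φ).map (prF U m k) ((fibF φ).map d
        (tm φ (Groth.QCohMod.germ M x (U := ⊤) trivial s))) =
      evF φ (coef d s k) • tm φ (oneGerm x) := by
  rw [← ConcreteCategory.comp_apply, ← Functor.map_comp, fibF_map_tm]
  erw [DerSch.stalkFunctor_map_germ]
  exact (congrArg (tm φ) (germ_structure ⊤ trivial _)).trans (tm_smul φ _ _)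

/-- Rank of a map of free modules is lower semicontinuous along any family of local homomorphisms
into fields. -/
theorem isOpen_le_rkF {K : U → Type u} [∀ x, Field (K x)]
    (φ : ∀ x : U, U.presheaf.stalk x →+* K x) [∀ x, IsLocalHom (φ x)] {a b : ℕ}
    (d : FlatMod.freeMod U a ⟶ FlatMod.freeMod U b) (r : ℕ) :
    IsOpen {x : U | r ≤ rkF (φ x) d} := by
  rw [isOpen_iff_forall_mem_open]
  intro x hx
  let e : Fin a → Γ(FlatMod.freeMod U a, ⊤) := fun j => (inF U a j).app ⊤ (1 : Γ(U, ⊤))
  let eV (y : U) (j : Fin a) : (fibF (φ y)).obj (FlatMod.freeMod U a) :=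
    tm (φ y) (Groth.QCohMod.germ (FlatMod.freeMod U a) y (U := ⊤) trivial (e j))
  let L (y : U) : (fibF (φ y)).obj (FlatMod.freeMod U a) →ₗ[K y]
      (fibF (φ y)).obj (FlatMod.freeMod U b) := ((fibF (φ y)).map d).hom
  let row (y : U) (j : Fin a) (k : Fin b) : K y := evF (φ y) (coef d (e j) k)
  have hspan : Submodule.span (K x) (Set.range (eV x)) = ⊤ := by
    have : eV x = fun j => tm (φ x) (eF x a j) := by
      funext j
      exact congrArg (tm (φ x)) (DerSch.stalkFunctor_map_germ x (inF U a j) ⊤ trivial _).symm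
    rw [this]
    exact span_tm (φ x) _ (span_eF x a)
  -- images of basis vectors: the rows of the matrix
  have hrow : ∀ (y : U) (j : Fin a), L y (eV y j) =
      ∑ k, row y j k • tm (φ y) (eF y b k) := fun y j => by
    have h : (∑ k, (fibF (φ y)).map (prF U b k ≫ inF U b k)) (L y (eV y j)) = L y (eV y j) := by
      rw [← Functor.map_sum, sum_prF_inF, CategoryTheory.Functor.map_id]
      rfl
    rw [← h, sum_app]
    refine Finset.sum_congr rfl fun k _ => ?_
    rw [Functor.map_comp, ConcreteCategory.comp_apply]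
    exact (congrArg _ (fibF_pr_map (φ y) d (e j) k)).trans (map_smul _ _ _)
  let comb (y : U) : (Fin b → K y) →ₗ[K y] (fibF (φ y)).obj (FlatMod.freeMod U b) :=
    Fintype.linearCombination (K y) fun k => tm (φ y) (eF y b k)
  have hcomb : ∀ y, Function.Injective (comb y) := fun y => by
    have := finite_fibF_free (φ y) b
    refine linearIndependent_iff_injective_fintypeLinearCombination.1 ?_
    refine linearIndependent_of_top_le_span_of_card_eq_finrank (span_tm (φ y) _ (span_eF y b)).ge ?_
    rw [Fintype.card_fin, finrank_fibF_free]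
  have hL : ∀ y j, L y (eV y j) = comb y (row y j) := fun y j => by
    rw [hrow]; rfl
  -- a nonvanishing minor at `x`
  obtain ⟨j, hj⟩ : ∃ j : Fin r → Fin a, LinearIndependent (K x) fun i => row x (j i) := by
    obtain ⟨κ, j, hji, hjs, hjl⟩ := exists_linearIndependent' (K x) (row x)
    have : Fintype κ := Fintype.ofInjective j hji
    have hr : r ≤ Fintype.card κ := by
      rw [linearIndependent_iff_card_eq_finrank_span.1 hjl, Set.finrank, hjs]
      refine le_trans hx (le_of_eq ?_)
      change Module.finrank (K x) (LinearMap.range (L x)) = _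
      rw [LinearMap.range_eq_map, ← hspan, Submodule.map_span, ← Set.range_comp]
      rw [show (L x) ∘ eV x = comb x ∘ row x from funext (hL x), Set.range_comp,
        ← Submodule.map_span]
      exact (Submodule.equivMapOfInjective _ (hcomb x) _).finrank_eq.symm
    let g : Fin r → κ := (Fintype.equivFin κ).symm ∘ Fin.castLE hr
    exact ⟨j ∘ g, hjl.comp g ((Fintype.equivFin κ).symm.injective.comp (Fin.castLE_injective hr))⟩
  obtain ⟨k, hk⟩ : ∃ k : Fin r → Fin b, (Matrix.of fun i l => row x (j i) (k l)).det ≠ 0 := by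
    let A : Matrix (Fin r) (Fin b) (K x) := Matrix.of fun i => row x (j i)
    obtain ⟨κ, k, hki, hks, hkl⟩ := exists_linearIndependent' (K x) A.col
    have : Fintype κ := Fintype.ofInjective k hki
    have hr : Fintype.card κ = r := by
      rw [linearIndependent_iff_card_eq_finrank_span.1 hkl, Set.finrank, hks]
      change Module.finrank (K x) (Submodule.span (K x) (Set.range A.col)) = r
      rw [← Matrix.rank_eq_finrank_span_cols, LinearIndependent.rank_matrix (M := A) hj,
        Fintype.card_fin]
    let g : Fin r ≃ κ := (Fintype.equivFinOfCardEq hr).symm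
    refine ⟨k ∘ g, ?_⟩
    have := (Matrix.linearIndependent_cols_iff_isUnit
      (A := Matrix.of fun i l => row x (j i) (k (g l)))).1 (hkl.comp g g.injective)
    exact ((Matrix.isUnit_iff_isUnit_det _).1 this).ne_zero
  -- it stays nonzero nearby
  let D : Γ(U, ⊤) := (Matrix.of fun i l => coef d (e (j i)) (k l)).det
  have hD : ∀ y, evF (φ y) D = (Matrix.of fun i l => row y (j i) (k l)).det := fun y =>
    RingHom.map_det _ _
  refine ⟨U.basicOpen D, fun y hy => ?_, (U.basicOpen D).2,
    (mem_basicOpen_iff_evF (φ x) D).2 (by rw [hD]; exact hk)⟩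
  have hy' : (Matrix.of fun i l => row y (j i) (k l)).det ≠ 0 := by
    rw [← hD]; exact (mem_basicOpen_iff_evF (φ y) D).1 hy
  have hli : LinearIndependent (K y) fun i => row y (j i) := by
    refine LinearIndependent.of_comp (LinearMap.funLeft (K y) (K y) k) ?_
    exact Matrix.linearIndependent_rows_iff_isUnit.2
      ((Matrix.isUnit_iff_isUnit_det _).2 hy'.isUnit)
  have := finite_fibF_free (φ y) b
  have hli' : LinearIndependent (K y) fun i => L y (eV y (j i)) := by
    simp only [hL]
    exact hli.map' (comb y) (LinearMap.ker_eq_bot.2 (hcomb y))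
  have hc : LinearIndependent (K y)
      (fun i => (⟨L y (eV y (j i)), eV y (j i), rfl⟩ : LinearMap.range (L y))) :=
    LinearIndependent.of_comp (LinearMap.range (L y)).subtype hli'
  have := hc.fintype_card_le_finrank
  rwa [Fintype.card_fin] at this

end Groth.DerivedCoh.Fibre
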