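import Groth.Agent.DerivedCoh.Fibre.Betti
import Groth.Agent.FlatCxBase.BaseChange
import Mathlib.Algebra.Category.ModuleCat.Descent
import Mathlib.RingTheory.LocalRing.Module

/-!
Fibres of complexes at residue fields: independence of the field, inverse images, exactness criterion.
-/

universe u

open CategoryTheory CategoryTheory.Limits CategoryTheory.Pretriangulated AlgebraicGeometry
  TopologicalSpace Opposite
open Groth.DerivedCoh.KFlat (stk T pullCx IsKFlat)
open Groth.KTheory.Perf (Rd Rc rdQIso)
open Groth.DerivedCoh.PCoh (Near)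

namespace Groth.DerivedCoh.Fibre

attribute [local instance] HasDerivedCategory.standard

local notation "up" => ComplexShape.up ℤ

variable {X Y U : Scheme.{u}}

/-- residue map of the stalk -/
noncomputable abbrev resS (v : U) :
    U.presheaf.stalk v →+* IsLocalRing.ResidueField (U.presheaf.stalk v) :=
  algebraMap (U.presheaf.stalk v) (IsLocalRing.ResidueField (U.presheaf.stalk v))

instance isLocalHom_resS (v : U) : IsLocalHom (resS v) :=
  inferInstanceAs (IsLocalHom (IsLocalRing.residue (U.presheaf.stalk v)))

/-- dimension of cohomology of the fibre at the residue field -/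
noncomputable def bRes (P : CochainComplex U.Modules ℤ) (v : U) (q : ℤ) : ℕ :=
  Module.finrank (IsLocalRing.ResidueField (U.presheaf.stalk v))
    ((((fibF (resS v)).mapHomologicalComplex up).obj P).homology q)

theorem finrank_homology_comp {v : U} {K L : Type u} [Field K] [Field L]
    (φ : U.presheaf.stalk v →+* K) (ψ : K →+* L) (P : CochainComplex U.Modules ℤ) (q : ℤ) :
    Module.finrank L ((((fibF (ψ.comp φ)).mapHomologicalComplex up).obj P).homology q) =
      Module.finrank K ((((fibF φ).mapHomologicalComplex up).obj P).homology q) := by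
  let G := ModuleCat.extendScalars.{u, u, u} ψ
  have hflat : ψ.Flat := by
    let := ψ.toAlgebra
    rw [RingHom.Flat]
    exact show Module.Flat K L from inferInstance
  have := ModuleCat.preservesFiniteLimits_extendScalars_of_flat hflat
  have : PreservesColimits G := (ModuleCat.extendRestrictScalarsAdj ψ).leftAdjoint_preservesColimits
  let C := ((fibF φ).mapHomologicalComplex up).obj P
  let e : fibF (ψ.comp φ) ≅ fibF φ ⋙ G :=
    Functor.isoWhiskerLeft (stk v) (ModuleCat.extendScalarsComp φ ψ) ≪≫
      (Functor.associator _ _ _).symm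
  let i : (((fibF (ψ.comp φ)).mapHomologicalComplex up).obj P).homology q ≅ G.obj (C.homology q) :=
    (HomologicalComplex.homologyFunctor (ModuleCat.{u} L) up q).mapIso
      ((NatIso.mapHomologicalComplex e up).app P) ≪≫ (C.sc q).mapHomologyIso G
  rw [i.toLinearEquiv.finrank_eq]
  let := ψ.toAlgebra
  exact Module.finrank_baseChange (R := L) (S := K) (M' := (C.homology q : Type u))

theorem finrank_homology_local {v : U} {K : Type u} [Field K] (φ : U.presheaf.stalk v →+* K)
    [IsLocalHom φ] (P : CochainComplex U.Modules ℤ) (q : ℤ) :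
    Module.finrank K ((((fibF φ).mapHomologicalComplex up).obj P).homology q) = bRes P v q := by
  have := finrank_homology_comp (resS v) (IsLocalRing.ResidueField.lift φ) P q
  rwa [show (IsLocalRing.ResidueField.lift φ).comp (resS v) = φ from
    IsLocalRing.ResidueField.lift_comp_residue φ] at this

theorem bRes_pullCx (f : X ⟶ Y) (F : CochainComplex Y.Modules ℤ) (x : X) (q : ℤ) :
    bRes ((pullCx f).obj F) x q = bRes F (f x) q := by
  let φ := (resS x).comp (f.stalkMap x).hom
  have : IsLocalHom φ := RingHom.isLocalHom_comp _ _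
  let e : Scheme.Modules.pullback f ⋙ fibF (resS x) ≅ fibF φ :=
    (Functor.associator _ _ _).symm ≪≫ Functor.isoWhiskerRight (KFlat.pullStkIso f x) _ ≪≫
      Functor.associator _ _ _ ≪≫
      Functor.isoWhiskerLeft (stk (f x)) (ModuleCat.extendScalarsComp _ _).symm
  refine Eq.trans ?_ (finrank_homology_local φ F q)
  exact ((HomologicalComplex.homologyFunctor _ up q).mapIso
    ((NatIso.mapHomologicalComplex e up).app F)).toLinearEquiv.finrank_eq

theorem bRes_congr {P Q : CochainComplex U.Modules ℤ} (e : P ≅ Q) (v : U) (q : ℤ) :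
    bRes P v q = bRes Q v q :=
  ((HomologicalComplex.homologyFunctor _ up q).mapIso
    (((fibF (resS v)).mapHomologicalComplex up).mapIso e)).toLinearEquiv.finrank_eq

lemma fromSpecResidueField_pt (x : X) (s : Spec (X.residueField x)) :
    X.fromSpecResidueField x s = x := by
  have h := Set.mem_range_self (f := X.fromSpecResidueField x) s
  rw [Scheme.range_fromSpecResidueField] at h
  exact h

/-- betti numbers from a K-flat representative -/
theorem betti_eq_bRes [∀ x : X, DCoh.HasLpull (X.fromSpecResidueField x)] {E : DCoh.D X}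
    {F : CochainComplex X.Modules ℤ} (hF : IsKFlat (T X) F) (e : DCoh.toD X F ≅ E) (x : X) (q : ℤ) :
    PerfD.betti E x q = bRes F x q := by
  let s : Spec (X.residueField x) := IsLocalRing.closedPoint (X.residueField x)
  let i := X.fromSpecResidueField x
  letI := (isField_stalk_spec (X.residueField x) (Field.toIsField _) s).toField
  have : Subsingleton (Spec (X.residueField x)) :=
    inferInstanceAs (Subsingleton (PrimeSpectrum (X.residueField x)))
  let φ := phiPt i s (fromSpecResidueField_pt x s)
  refine Eq.trans ?_ (finrank_homology_local φ F q)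
  unfold PerfD.betti
  rw [finrank_sections_eq _ s]
  let a : DCoh.HD ((DCoh.Lpull i).obj E) q ≅ ((pullCx i).obj F).homology q :=
    (DerivedCategory.homologyFunctor _ q).mapIso
      ((DCoh.Lpull i).mapIso e.symm ≪≫ KFlat.lpullQIso i F hF) ≪≫ KFlat.hdIso _ q
  rw [((stk s).mapIso a).toLinearEquiv.finrank_eq]
  suffices h : ∀ {v : X} (hv : i s = v),
      Module.finrank ((Spec (X.residueField x)).presheaf.stalk s)
          ((stk s).obj (((pullCx i).obj F).homology q)) =
        Module.finrank ((Spec (X.residueField x)).presheaf.stalk s)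
          ((((fibF (phiPt i s hv)).mapHomologicalComplex up).obj F).homology q) from h _
  intro v hv
  subst hv
  exact (((((pullCx i).obj F).sc q).mapHomologyIso (stk s)).symm ≪≫
    (HomologicalComplex.homologyFunctor (ModuleCat.{u} _) up q).mapIso
      ((NatIso.mapHomologicalComplex (KFlat.pullStkIso i s) up).app F)).toLinearEquiv.finrank_eq

/-- betti numbers of a chart -/
theorem bRes_eq_betti_of_near [∀ x : X, DCoh.HasLpull (X.fromSpecResidueField x)] (E : DCoh.D X)
    (j : U ⟶ X) [IsOpenImmersion j] {P : CochainComplex U.Modules ℤ} (hP : DCoh.IsStrictlyPerfect P)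
    {m : ℤ} (α : DCoh.toD U P ⟶ (Rd j).obj E) (hα : Near m α) (v : U) (q : ℤ) (hq : m < q) :
    PerfD.betti E (j v) q = bRes P v q := by
  let s : Spec (X.residueField (j v)) := IsLocalRing.closedPoint (X.residueField (j v))
  have hr : Set.range (X.fromSpecResidueField (j v)) ⊆ Set.range j := by
    rw [Scheme.range_fromSpecResidueField, Set.singleton_subset_iff]
    exact ⟨v, rfl⟩
  let g := IsOpenImmersion.lift j _ hr
  have hfac : g ≫ j = X.fromSpecResidueField (j v) := IsOpenImmersion.lift_fac _ _ _
  have hv : g s = v := j.injective (by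
    rw [← Scheme.Hom.comp_apply, hfac]
    exact fromSpecResidueField_pt _ s)
  letI := (isField_stalk_spec (X.residueField (j v)) (Field.toIsField _) s).toField
  have : Subsingleton (Spec (X.residueField (j v))) :=
    inferInstanceAs (Subsingleton (PrimeSpectrum (X.residueField (j v))))
  refine Eq.trans ?_ (finrank_homology_local (phiPt g s hv) P q)
  unfold PerfD.betti
  rw [finrank_sections_eq _ s]
  exact finrank_stk_hd j g _ hfac s hv E hP α hα q hq

section exact

variable {v : U} {P : CochainComplex U.Modules ℤ} {q : ℤ}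

/-- if the fibre at the residue field has no cohomology in degree `q`, the map from the cokernel
into the next term splits on the stalk -/
theorem stalk_of_bRes_eq_zero
    (hfin : Module.Finite (U.presheaf.stalk v) ((stk v).obj (P.X q)))
    (hfree : Module.Free (U.presheaf.stalk v) ((stk v).obj (P.X (q + 1))))
    (hfin' : Module.Finite (U.presheaf.stalk v) ((stk v).obj (P.X (q + 1))))
    (h : bRes P v q = 0) :
    IsZero ((stk v).obj (P.homology q)) ∧
      Module.Projective (U.presheaf.stalk v)
        ((stk v).obj (P.X q) ⧸ LinearMap.range ((stk v).map (P.d (q - 1) q)).hom) ∧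
      Module.Projective (U.presheaf.stalk v)
        ((stk v).obj (P.X (q + 1)) ⧸ LinearMap.range ((stk v).map (P.d q (q + 1))).hom) := by
  let R := U.presheaf.stalk v
  let κ := IsLocalRing.ResidueField R
  let d₁ : (stk v).obj (P.X (q - 1)) →ₗ[R] (stk v).obj (P.X q) := ((stk v).map (P.d (q - 1) q)).hom
  let d₂ : (stk v).obj (P.X q) →ₗ[R] (stk v).obj (P.X (q + 1)) := ((stk v).map (P.d q (q + 1))).hom
  let C := ((fibF (resS v)).mapHomologicalComplex up).obj P
  have hd : ∀ x, d₂ (d₁ x) = 0 := fun x => by
    change (((stk v).map (P.d (q - 1) q)) ≫ ((stk v).map (P.d q (q + 1)))).hom x = 0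
    rw [← Functor.map_comp, P.d_comp_d, Functor.map_zero]
    rfl
  let dBar : ((stk v).obj (P.X q) ⧸ LinearMap.range d₁) →ₗ[R] (stk v).obj (P.X (q + 1)) :=
    (LinearMap.range d₁).liftQ d₂ (by rintro _ ⟨w, rfl⟩; exact hd w)
  have : Module.Finite κ (C.X q) :=
    Module.Finite.equiv (Groth.FlatCxBase.extendEquiv κ ((stk v).obj (P.X q))).symm
  let eh := Groth.FlatCxBase.homologyEquivQuot C (Groth.FlatCxBase.cochain_prev q)
    (Groth.FlatCxBase.cochain_next q)
  have : Module.Finite κ (C.homology q) := Module.Finite.equiv eh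
  have hC : Subsingleton (C.homology q) := Module.finrank_zero_iff.1 h
  have hex : ∀ y : C.X q, C.d q (q + 1) y = 0 → ∃ w, C.d (q - 1) q w = y := fun y hy => by
    have := eh.toEquiv.subsingleton_congr.2 hC
    have h0 := (Submodule.Quotient.mk_eq_zero _).1 (Subsingleton.elim
      (Submodule.Quotient.mk (p := (LinearMap.range (C.d (q - 1) q).hom).comap
        (LinearMap.ker (C.d q (q + 1)).hom).subtype) ⟨y, hy⟩) 0)
    exact h0
  have hinj : Function.Injective (dBar.lTensor κ) := by
    rw [injective_iff_map_eq_zero]
    intro z hz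
    obtain ⟨x, rfl⟩ := LinearMap.lTensor_surjective κ (LinearMap.range d₁).mkQ_surjective z
    rw [← LinearMap.lTensor_comp_apply] at hz
    let e₀ := Groth.FlatCxBase.extendEquiv κ ((stk v).obj (P.X q))
    let y : C.X q := e₀.symm x
    have hy : C.d q (q + 1) y = 0 := by
      apply (Groth.FlatCxBase.extendEquiv κ ((stk v).obj (P.X (q + 1)))).injective
      refine (Groth.FlatCxBase.extendEquiv_map κ ((stk v).map (P.d q (q + 1))) y).trans ?_
      refine ((congrArg _ (e₀.apply_symm_apply x)).trans hz).trans ?_
      exact (map_zero (Groth.FlatCxBase.extendEquiv κ ((stk v).obj (P.X (q + 1))))).symm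
    obtain ⟨w, hw⟩ := hex y hy
    have hx : d₁.lTensor κ (Groth.FlatCxBase.extendEquiv κ ((stk v).obj (P.X (q - 1))) w) = x := by
      have := Groth.FlatCxBase.extendEquiv_map κ ((stk v).map (P.d (q - 1) q)) w
      exact this.symm.trans ((congrArg e₀ hw).trans (e₀.apply_symm_apply x))
    rw [← hx, ← LinearMap.lTensor_comp_apply, LinearMap.range_mkQ_comp, LinearMap.lTensor_zero,
      LinearMap.zero_apply]
  obtain ⟨r, hr⟩ := (IsLocalRing.split_injective_iff_lTensor_residueField_injective dBar).2 hinj
  refine ⟨?_, Module.Projective.of_split dBar r hr, ?_⟩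
  · refine IsZero.of_iso ?_ ((P.sc q).mapHomologyIso (stk v)).symm
    have hC' : (((stk v).mapHomologicalComplex up).obj P).ExactAt q := by
      rw [HomologicalComplex.exactAt_iff' _ (q - 1) q (q + 1) (by simp) (by simp),
        ShortComplex.moduleCat_exact_iff]
      intro x hx
      have h2 : (LinearMap.range d₁).mkQ x = 0 := by
        have h1 := LinearMap.congr_fun hr ((LinearMap.range d₁).mkQ x)
        rw [LinearMap.comp_apply, LinearMap.id_apply] at h1
        rw [← h1]
        exact (congrArg r (show dBar ((LinearMap.range d₁).mkQ x) = 0 from hx)).trans (map_zero r)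
      exact (Submodule.Quotient.mk_eq_zero _).1 h2
    exact hC'.isZero_homology
  · have := hfree
    let π : (stk v).obj (P.X (q + 1)) →ₗ[R] (stk v).obj (P.X (q + 1)) :=
      LinearMap.id - dBar ∘ₗ r
    have hπ : LinearMap.range d₂ ≤ LinearMap.ker π := by
      rintro _ ⟨x, rfl⟩
      have h1 := LinearMap.congr_fun hr ((LinearMap.range d₁).mkQ x)
      rw [LinearMap.comp_apply, LinearMap.id_apply] at h1
      rw [LinearMap.mem_ker, LinearMap.sub_apply, LinearMap.id_apply, LinearMap.comp_apply]
      rw [show d₂ x = dBar ((LinearMap.range d₁).mkQ x) from rfl, h1, sub_self]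
    refine Module.Projective.of_split ((LinearMap.range d₂).liftQ π hπ) (LinearMap.range d₂).mkQ ?_
    refine Submodule.linearMap_qext _ (LinearMap.ext fun y => ?_)
    change Submodule.Quotient.mk (y - dBar (r y)) = Submodule.Quotient.mk y
    rw [Submodule.Quotient.eq, sub_sub_cancel_left, Submodule.neg_mem_iff]
    obtain ⟨t, ht⟩ := Submodule.mkQ_surjective (LinearMap.range d₁) (r y)
    exact ⟨t, (congrArg dBar ht)⟩

end exact

end Groth.DerivedCoh.Fibre
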